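import Cfsg.Agent.Lib.Helper9.TCData.M11A0.Main

set_option autoImplicit false
set_option maxRecDepth 1000000

namespace Cfsg.Agent.Helper9.TCData.M11A0
open Cfsg.Agent.Helper9.TC2

theorem f_0 : allRange 0 572 (fun u => chkFin tab u) = true := by decide +kernel

theorem f_1 : allRange 572 572 (fun u => chkFin tab u) = true := by decide +kernel

theorem f_2 : allRange 1144 572 (fun u => chkFin tab u) = true := by decide +kernel

theorem f_3 : allRange 1716 264 (fun u => chkFin tab u) = true := by decide +kernel

theorem c_0 : allRange 0 2667 (fun u => chkCls tab u) = true := by decide +kernel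

theorem c_1 : allRange 2667 2667 (fun u => chkCls tab u) = true := by decide +kernel

theorem c_2 : allRange 5334 2667 (fun u => chkCls tab u) = true := by decide +kernel

theorem c_3 : allRange 8001 2667 (fun u => chkCls tab u) = true := by decide +kernel


end Cfsg.Agent.Helper9.TCData.M11A0
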