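import Cfsg.Agent.Lib.Helper9.TCData.M11A0.S0
import Cfsg.Agent.Lib.Helper9.TCData.M11A0.S1
import Cfsg.Agent.Lib.Helper9.TCData.M11A0.S2
import Cfsg.Agent.Lib.Helper9.TCData.M11A0.S3
import Cfsg.Agent.Lib.Helper9.TCData.M11A0.S4
import Cfsg.Agent.Lib.Helper9.TCData.M11A0.S5
import Cfsg.Agent.Lib.Helper9.TCData.M11A0.S6
import Cfsg.Agent.Lib.Helper9.TCData.M11A0.S7

set_option autoImplicit false
set_option maxRecDepth 1000000

namespace Cfsg.Agent.Helper9.TCData.M11A0
open Cfsg.Agent.Helper9.TC2


theorem hE0 : ∀ u < 16150, chkE tab 0 u = true := by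
  have h0 : ∀ u < 0, (fun u => chkE tab 0 u) u = true := range_zero
  have h1 : ∀ u < 2918, (fun u => chkE tab 0 u) u = true := ext_range (a := 0) (len := 2918) h0 e0_0
  have h2 : ∀ u < 5731, (fun u => chkE tab 0 u) u = true := ext_range (a := 2918) (len := 2813) h1 e0_1
  have h3 : ∀ u < 8391, (fun u => chkE tab 0 u) u = true := ext_range (a := 5731) (len := 2660) h2 e0_2
  have h4 : ∀ u < 11071, (fun u => chkE tab 0 u) u = true := ext_range (a := 8391) (len := 2680) h3 e0_3
  have h5 : ∀ u < 14442, (fun u => chkE tab 0 u) u = true := ext_range (a := 11071) (len := 3371) h4 e0_4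
  have h6 : ∀ u < 16150, (fun u => chkE tab 0 u) u = true := ext_range (a := 14442) (len := 1708) h5 e0_5
  exact h6

theorem hE1 : ∀ u < 16150, chkE tab 1 u = true := by
  have h0 : ∀ u < 0, (fun u => chkE tab 1 u) u = true := range_zero
  have h1 : ∀ u < 8000, (fun u => chkE tab 1 u) u = true := ext_range (a := 0) (len := 8000) h0 e1_0
  have h2 : ∀ u < 16150, (fun u => chkE tab 1 u) u = true := ext_range (a := 8000) (len := 8150) h1 e1_1
  exact h2

theorem hE2 : ∀ u < 16150, chkE tab 2 u = true := by
  have h0 : ∀ u < 0, (fun u => chkE tab 2 u) u = true := range_zero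
  have h1 : ∀ u < 3434, (fun u => chkE tab 2 u) u = true := ext_range (a := 0) (len := 3434) h0 e2_0
  have h2 : ∀ u < 6642, (fun u => chkE tab 2 u) u = true := ext_range (a := 3434) (len := 3208) h1 e2_1
  have h3 : ∀ u < 9872, (fun u => chkE tab 2 u) u = true := ext_range (a := 6642) (len := 3230) h2 e2_2
  have h4 : ∀ u < 13241, (fun u => chkE tab 2 u) u = true := ext_range (a := 9872) (len := 3369) h3 e2_3
  have h5 : ∀ u < 16150, (fun u => chkE tab 2 u) u = true := ext_range (a := 13241) (len := 2909) h4 e2_4
  exact h5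

theorem hE3 : ∀ u < 16150, chkE tab 3 u = true := by
  have h0 : ∀ u < 0, (fun u => chkE tab 3 u) u = true := range_zero
  have h1 : ∀ u < 6333, (fun u => chkE tab 3 u) u = true := ext_range (a := 0) (len := 6333) h0 e3_0
  have h2 : ∀ u < 12910, (fun u => chkE tab 3 u) u = true := ext_range (a := 6333) (len := 6577) h1 e3_1
  have h3 : ∀ u < 16150, (fun u => chkE tab 3 u) u = true := ext_range (a := 12910) (len := 3240) h2 e3_2
  exact h3

theorem hL : ∀ u < 16150, chkL tab u = true := by
  have h0 : ∀ u < 0, (fun u => chkL tab u) u = true := range_zero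
  have h1 : ∀ u < 3353, (fun u => chkL tab u) u = true := ext_range (a := 0) (len := 3353) h0 l_0
  have h2 : ∀ u < 5100, (fun u => chkL tab u) u = true := ext_range (a := 3353) (len := 1747) h1 l_1
  have h3 : ∀ u < 6736, (fun u => chkL tab u) u = true := ext_range (a := 5100) (len := 1636) h2 l_2
  have h4 : ∀ u < 8343, (fun u => chkL tab u) u = true := ext_range (a := 6736) (len := 1607) h3 l_3
  have h5 : ∀ u < 9943, (fun u => chkL tab u) u = true := ext_range (a := 8343) (len := 1600) h4 l_4
  have h6 : ∀ u < 11543, (fun u => chkL tab u) u = true := ext_range (a := 9943) (len := 1600) h5 l_5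
  have h7 : ∀ u < 13140, (fun u => chkL tab u) u = true := ext_range (a := 11543) (len := 1597) h6 l_6
  have h8 : ∀ u < 14734, (fun u => chkL tab u) u = true := ext_range (a := 13140) (len := 1594) h7 l_7
  have h9 : ∀ u < 16150, (fun u => chkL tab u) u = true := ext_range (a := 14734) (len := 1416) h8 l_8
  exact h9

theorem hF : ∀ u < 1980, chkFin tab u = true := by
  have h0 : ∀ u < 0, (fun u => chkFin tab u) u = true := range_zero
  have h1 : ∀ u < 572, (fun u => chkFin tab u) u = true := ext_range (a := 0) (len := 572) h0 f_0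
  have h2 : ∀ u < 1144, (fun u => chkFin tab u) u = true := ext_range (a := 572) (len := 572) h1 f_1
  have h3 : ∀ u < 1716, (fun u => chkFin tab u) u = true := ext_range (a := 1144) (len := 572) h2 f_2
  have h4 : ∀ u < 1980, (fun u => chkFin tab u) u = true := ext_range (a := 1716) (len := 264) h3 f_3
  exact h4

theorem hC : ∀ u < 16150, chkCls tab u = true := by
  have h0 : ∀ u < 0, (fun u => chkCls tab u) u = true := range_zero
  have h1 : ∀ u < 2667, (fun u => chkCls tab u) u = true := ext_range (a := 0) (len := 2667) h0 c_0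
  have h2 : ∀ u < 5334, (fun u => chkCls tab u) u = true := ext_range (a := 2667) (len := 2667) h1 c_1
  have h3 : ∀ u < 8001, (fun u => chkCls tab u) u = true := ext_range (a := 5334) (len := 2667) h2 c_2
  have h4 : ∀ u < 10668, (fun u => chkCls tab u) u = true := ext_range (a := 8001) (len := 2667) h3 c_3
  have h5 : ∀ u < 13335, (fun u => chkCls tab u) u = true := ext_range (a := 10668) (len := 2667) h4 c_4
  have h6 : ∀ u < 16002, (fun u => chkCls tab u) u = true := ext_range (a := 13335) (len := 2667) h5 c_5
  have h7 : ∀ u < 16150, (fun u => chkCls tab u) u = true := ext_range (a := 16002) (len := 148) h6 c_6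
  exact h7

theorem hM1 : ∀ u < 1980, chkM1 tab u = true := by
  have h0 : ∀ u < 0, (fun u => chkM1 tab u) u = true := range_zero
  have h1 : ∀ u < 1510, (fun u => chkM1 tab u) u = true := ext_range (a := 0) (len := 1510) h0 m1_0
  have h2 : ∀ u < 1980, (fun u => chkM1 tab u) u = true := ext_range (a := 1510) (len := 470) h1 m1_1
  exact h2

theorem hMA : ∀ u < 1980, chkAux tab aux u = true := by
  have h0 : ∀ u < 0, (fun u => chkAux tab aux u) u = true := range_zero
  have h1 : ∀ u < 1291, (fun u => chkAux tab aux u) u = true := ext_range (a := 0) (len := 1291) h0 ma_0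
  have h2 : ∀ u < 1980, (fun u => chkAux tab aux u) u = true := ext_range (a := 1291) (len := 689) h1 ma_1
  exact h2

theorem hM2A : ∀ u < 1980, chkFix tab mwordsA u = true := by
  have h0 : ∀ u < 0, (fun u => chkFix tab mwordsA u) u = true := range_zero
  have h1 : ∀ u < 351, (fun u => chkFix tab mwordsA u) u = true := ext_range (a := 0) (len := 351) h0 m2_0
  have h2 : ∀ u < 702, (fun u => chkFix tab mwordsA u) u = true := ext_range (a := 351) (len := 351) h1 m2_1
  have h3 : ∀ u < 1053, (fun u => chkFix tab mwordsA u) u = true := ext_range (a := 702) (len := 351) h2 m2_2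
  have h4 : ∀ u < 1404, (fun u => chkFix tab mwordsA u) u = true := ext_range (a := 1053) (len := 351) h3 m2_3
  have h5 : ∀ u < 1755, (fun u => chkFix tab mwordsA u) u = true := ext_range (a := 1404) (len := 351) h4 m2_4
  have h6 : ∀ u < 1980, (fun u => chkFix tab mwordsA u) u = true := ext_range (a := 1755) (len := 225) h5 m2_5
  exact h6

theorem hE : ∀ c < 4, ∀ u < 16150, chkE tab c u = true := by
  intro c hc
  interval_cases c
  · exact hE0
  · exact hE1
  · exact hE2
  · exact hE3

end Cfsg.Agent.Helper9.TCData.M11A0
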