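import Cfsg.Agent.Lib.Helper9.TCData.M11A0.Main

set_option autoImplicit false
set_option maxRecDepth 1000000

namespace Cfsg.Agent.Helper9.TCData.M11A0
open Cfsg.Agent.Helper9.TC2

theorem e0_0 : allRange 0 2918 (fun u => chkE tab 0 u) = true := by decide +kernel

theorem e0_1 : allRange 2918 2813 (fun u => chkE tab 0 u) = true := by decide +kernel

theorem e0_2 : allRange 5731 2660 (fun u => chkE tab 0 u) = true := by decide +kernel

theorem e0_3 : allRange 8391 2680 (fun u => chkE tab 0 u) = true := by decide +kernel

theorem e0_4 : allRange 11071 3371 (fun u => chkE tab 0 u) = true := by decide +kernel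

theorem e0_5 : allRange 14442 1708 (fun u => chkE tab 0 u) = true := by decide +kernel

theorem e1_0 : allRange 0 8000 (fun u => chkE tab 1 u) = true := by decide +kernel

theorem e1_1 : allRange 8000 8150 (fun u => chkE tab 1 u) = true := by decide +kernel


end Cfsg.Agent.Helper9.TCData.M11A0
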